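import Mathlib.AlgebraicGeometry.Morphisms.Separated
import Mathlib.AlgebraicGeometry.Morphisms.Immersion
import Mathlib.AlgebraicGeometry.IdealSheaf.Functorial

/-! Reduced closed and locally closed subschemes. -/

set_option autoImplicit false
universe u

noncomputable section

open AlgebraicGeometry CategoryTheory Limits TopologicalSpace

namespace Groth.Agent.RedSepLib

/-- For a reduced source, the kernel is the vanishing ideal of the closure of the image. -/
lemma ker_eq_vanishingIdeal {X Y : Scheme.{u}} [IsReduced X] (f : X ⟶ Y) :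
    f.ker = Scheme.IdealSheafData.vanishingIdeal (Closeds.closure (Set.range f)) := by
  have h := Scheme.IdealSheafData.map_vanishingIdeal f ⊤
  rw [Scheme.IdealSheafData.vanishingIdeal_top, Scheme.nilradical_eq_bot,
    Scheme.IdealSheafData.map_bot] at h
  simpa using h

/-- A closed subscheme cut out by radical ideals is reduced. -/
lemma isReduced_subscheme {X : Scheme.{u}} (I : X.IdealSheafData)
    (hI : ∀ U : X.affineOpens, (I.ideal U).IsRadical) : IsReduced I.subscheme := by
  have : ∀ i, IsReduced (I.subschemeCover.openCover.X i) := by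
    intro U
    have : _root_.IsReduced (Γ(X, (U : X.affineOpens).1) ⧸ I.ideal U) :=
      (Ideal.isRadical_iff_quotient_reduced _).mp (hI U)
    exact inferInstanceAs (IsReduced (Spec (CommRingCat.of (Γ(X, (U : X.affineOpens).1) ⧸ I.ideal U))))
  exact IsReduced.of_openCover _ I.subschemeCover.openCover

lemma isReduced_vanishingIdeal_subscheme {X : Scheme.{u}} (Z : Closeds X) :
    IsReduced (Scheme.IdealSheafData.vanishingIdeal Z).subscheme := by
  apply isReduced_subscheme
  intro U
  simpa using PrimeSpectrum.isRadical_vanishingIdeal _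

lemma isReduced_nilradical_subscheme (X : Scheme.{u}) : IsReduced X.nilradical.subscheme := by
  apply isReduced_subscheme
  intro U
  exact Ideal.radical_isRadical _

/-- A morphism from a reduced scheme whose image is contained in a closed immersion factors
through it. -/
lemma exists_lift_of_range_subset {X Y Z : Scheme.{u}} [IsReduced X] (f : X ⟶ Y) (j : Z ⟶ Y)
    [IsClosedImmersion j] (h : Set.range f ⊆ Set.range j) : ∃ g : X ⟶ Z, g ≫ j = f := by
  refine ⟨IsClosedImmersion.lift j f ?_, IsClosedImmersion.lift_fac _ _ _⟩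
  rw [ker_eq_vanishingIdeal f, ← Scheme.IdealSheafData.le_support_iff_le_vanishingIdeal,
    Closeds.closure_le]
  exact h.trans j.range_subset_ker_support

/-- Reduced closed subschemes with the same image are isomorphic. -/
lemma exists_iso_of_range_eq {Z Z' X : Scheme.{u}} [IsReduced Z] [IsReduced Z'] (i : Z ⟶ X)
    (i' : Z' ⟶ X) [IsClosedImmersion i] [IsClosedImmersion i'] (h : Set.range i = Set.range i') :
    ∃ e : Z ≅ Z', e.hom ≫ i' = i := by
  have hk : i'.ker = i.ker := by rw [ker_eq_vanishingIdeal, ker_eq_vanishingIdeal, h]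
  have := IsClosedImmersion.isIso_lift i' i hk
  exact ⟨asIso (IsClosedImmersion.lift i' i hk.le), IsClosedImmersion.lift_fac _ _ _⟩

/-- An immersion whose image is closed in an open `U` containing it lifts to a closed immersion
into `U`. -/
lemma exists_closedImmersion_lift {Z X : Scheme.{u}} (i : Z ⟶ X) [IsImmersion i] (U : X.Opens)
    (h : Set.range i ⊆ (U : Set X))
    (hc : IsClosed ((Subtype.val : (↥(U : Set X)) → X) ⁻¹' Set.range i)) :
    ∃ j : Z ⟶ U.toScheme, IsClosedImmersion j ∧ j ≫ U.ι = i ∧
      Set.range j = U.ι ⁻¹' Set.range i := by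
  let j := IsOpenImmersion.lift U.ι i (by simpa using h)
  have hj : j ≫ U.ι = i := IsOpenImmersion.lift_fac _ _ _
  have : IsPreimmersion (j ≫ U.ι) := by rw [hj]; infer_instance
  have : IsPreimmersion j := IsPreimmersion.of_comp j U.ι
  have hr : Set.range j = U.ι ⁻¹' Set.range i := by
    rw [← hj, Scheme.Hom.comp_base, TopCat.coe_comp, Set.range_comp,
      Set.preimage_image_eq _ U.ι.isEmbedding.injective]
  refine ⟨j, IsClosedImmersion.of_isPreimmersion j ?_, hj, hr⟩
  rw [hr]
  exact hc

/-- Reduced subschemes (immersions) with the same image are isomorphic. -/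
lemma exists_iso_of_range_eq_of_isImmersion {Z Z' X : Scheme.{u}} [IsReduced Z] [IsReduced Z']
    (i : Z ⟶ X) (i' : Z' ⟶ X) [IsImmersion i] [IsImmersion i']
    (h : Set.range i = Set.range i') : ∃ e : Z ≅ Z', e.hom ≫ i' = i := by
  let U : X.Opens := ⟨coborder (Set.range i), i.isLocallyClosed_range.isOpen_coborder⟩
  obtain ⟨j, hj, hji, hjr⟩ := exists_closedImmersion_lift i U subset_coborder
    isClosed_preimage_val_coborder
  obtain ⟨j', hj', hji', hjr'⟩ := exists_closedImmersion_lift i' U
    (h ▸ subset_coborder) (h ▸ isClosed_preimage_val_coborder)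
  obtain ⟨e, he⟩ := exists_iso_of_range_eq j j' (by rw [hjr, hjr', h])
  exact ⟨e, by rw [← hji', ← Category.assoc, he, hji]⟩

end Groth.Agent.RedSepLib
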